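import Groth.Prelude.Def_Fitting
import Groth.Prelude.Def_Mor2
import Groth.Agent.GrpdLib.Norm
import Mathlib.AlgebraicGeometry.Morphisms.FlatRank
import Mathlib.AlgebraicGeometry.Morphisms.Affine
import Mathlib.RingTheory.Flat.EquationalCriterion
import Mathlib.RingTheory.LocalRing.Module
import Mathlib.Algebra.Category.Ring.Constructions

/-!
# The norm of a finite locally free morphism
-/

set_option linter.style.haveILetI false

universe u

open CategoryTheory Limits AlgebraicGeometry TopologicalSpace Opposite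

noncomputable section

namespace Groth.Agent.NormFLF

open Groth.Agent.GrpdLib

/-- The norm of a scalar is its power by the rank. -/
theorem norm_algebraMap {A B : Type u} [CommRing A] [CommRing B] [Algebra A B] [Module.Finite A B]
    [Module.Projective A B] {d : ℕ} (hd : ∀ p, Module.rankAtStalk (R := A) B p = d)
    (P : Pres (algebraMap A B)) (a : A) : P.norm (algebraMap A B a) = a ^ d := by
  haveI : Module.Flat A B := Module.Flat.of_projective
  rw [← sub_eq_zero]
  refine eq_zero_of_localization _ fun J hJ => ?_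
  rw [map_sub, map_pow, sub_eq_zero]
  let Ap := Localization.AtPrime J
  obtain ⟨P', -, hN, -⟩ := exists_pres_baseChange
    (φ := CommRingCat.ofHom (algebraMap A Ap)) (σ := CommRingCat.ofHom (algebraMap A B))
    (CommRingCat.isPushout_tensorProduct A Ap B) P
  haveI : Module.Free Ap (TensorProduct A Ap B) := Module.free_of_flat_of_isLocalRing
  have hr : Module.finrank Ap (TensorProduct A Ap B) = d := by
    rw [← hd ⟨J, hJ.isPrime⟩, Module.rankAtStalk]
    exact (IsLocalizedModule.isBaseChange J.primeCompl Ap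
      (LocalizedModule.mkLinearMap J.primeCompl B)).equiv.finrank_eq
  have key := hN (algebraMap A B a)
  have h2 : P'.norm (Algebra.TensorProduct.includeRight (R := A) (A := Ap) (algebraMap A B a)) =
      (algebraMap A Ap a) ^ d := by
    let Q : Pres (algebraMap Ap (TensorProduct A Ap B)) := Pres.ofBasis (Module.finBasis Ap _)
    refine (Pres.norm_eq P' Q _).trans ?_
    rw [Pres.norm_ofBasis, AlgHom.commutes, IsScalarTower.algebraMap_apply A Ap (TensorProduct A Ap B) a,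
      Algebra.norm_algebraMap_of_basis (Module.finBasis Ap _), Fintype.card_fin, hr]
  exact key.symm.trans h2

variable {X Y : Scheme.{u}} (π : X ⟶ Y)

theorem isAffine_preimage [IsFinite π] {W : Y.Opens} (hW : IsAffineOpen W) : IsAffineOpen (π ⁻¹ᵁ W) :=
  hW.preimage π

theorem nonempty_pres [IsFinite π] [Flat π] [LocallyOfFinitePresentation π] {W : Y.Opens}
    (hW : IsAffineOpen W) : Nonempty (Pres (π.appLE W (π ⁻¹ᵁ W) le_rfl).hom) := by
  have h1 : (π.appLE W (π ⁻¹ᵁ W) le_rfl).hom.Finite := by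
    rw [Scheme.Hom.appLE_eq_app]; exact π.finite_app W hW
  have h2 : (π.appLE W (π ⁻¹ᵁ W) le_rfl).hom.Flat :=
    HasRingHomProperty.appLE @Flat π inferInstance ⟨W, hW⟩ ⟨_, hW.preimage π⟩ le_rfl
  have h3 := π.finitePresentation_appLE hW (hW.preimage π) le_rfl
  algebraize [(π.appLE W (π ⁻¹ᵁ W) le_rfl).hom]
  haveI := Module.FinitePresentation.of_finite_of_finitePresentation Γ(Y, W) Γ(X, π ⁻¹ᵁ W)
  exact Pres.nonempty h1 Module.Flat.projective_of_finitePresentation

/-- The norm on an affine open. -/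
def nW [IsFinite π] [Flat π] [LocallyOfFinitePresentation π] {W : Y.Opens} (hW : IsAffineOpen W)
    (s : Γ(X, π ⁻¹ᵁ W)) : Γ(Y, W) :=
  (nonempty_pres π hW).some.norm s

variable [IsFinite π] [Flat π] [LocallyOfFinitePresentation π]

theorem nW_res {W W' : Y.Opens} (hW : IsAffineOpen W) (hW' : IsAffineOpen W') (i : W' ⟶ W)
    (s : Γ(X, π ⁻¹ᵁ W)) :
    Y.presheaf.map i.op (nW π hW s) = nW π hW' (X.presheaf.map ((Opens.map π.base).map i).op s) := by
  have hc : IsPullback (𝟙 X) π π (𝟙 Y) := IsPullback.of_horiz_isIso ⟨by simp⟩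
  have e : W' ≤ (𝟙 Y) ⁻¹ᵁ W := i.le
  have hV : π ⁻¹ᵁ W' = (𝟙 X) ⁻¹ᵁ (π ⁻¹ᵁ W) ⊓ π ⁻¹ᵁ W' :=
    (inf_eq_right.2 (π.preimage_mono i.le)).symm
  have hpush : IsPushout (π.appLE W (π ⁻¹ᵁ W) le_rfl) ((𝟙 Y : Y ⟶ Y).appLE W W' e)
      ((𝟙 X : X ⟶ X).appLE (π ⁻¹ᵁ W) (π ⁻¹ᵁ W') (π.preimage_mono i.le)) (π.appLE W' (π ⁻¹ᵁ W') le_rfl) :=
    (isIso_pushoutSection_iff hc e le_rfl hV).mp
      (isIso_pushoutSection_of_isAffineOpen hc e le_rfl hV hW hW' (hW.preimage π))
  obtain ⟨P', -, hN, -⟩ := exists_pres_baseChange hpush.flip (nonempty_pres π hW).some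
  have h1 := (Pres.norm_eq (nonempty_pres π hW').some P' _).trans (hN s)
  simp only [Scheme.Hom.appLE, Scheme.Hom.id_app, Category.id_comp] at h1
  exact h1.symm

theorem exists_norm (U : Y.Opens) (s : Γ(X, π ⁻¹ᵁ U)) :
    ∃ t : Γ(Y, U), ∀ (W : Y.Opens) (hW : IsAffineOpen W) (i : W ⟶ U),
      Y.presheaf.map i.op t = nW π hW (X.presheaf.map ((Opens.map π.base).map i).op s) := by
  let ι := { W : Y.Opens // IsAffineOpen W ∧ W ≤ U }
  let V : ι → Y.Opens := fun W => W.1
  have hcov : U ≤ iSup V := fun y hy => by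
    obtain ⟨W, hW, hyW, hWU⟩ := exists_isAffineOpen_mem_and_subset hy
    exact Opens.mem_iSup.2 ⟨⟨W, hW, hWU⟩, hyW⟩
  let sf : ∀ W : ι, Γ(Y, V W) :=
    fun W => nW π W.2.1 (X.presheaf.map ((Opens.map π.base).map (homOfLE W.2.2)).op s)
  have hcompat : TopCat.Presheaf.IsCompatible Y.sheaf.obj V sf := by
    intro a b
    let ι' := { W : Y.Opens // IsAffineOpen W ∧ W ≤ V a ⊓ V b }
    refine TopCat.Sheaf.eq_of_locally_eq' Y.sheaf (fun W : ι' => W.1) (V a ⊓ V b)
      (fun W => homOfLE W.2.2) (fun y hy => ?_) _ _ fun W => ?_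
    · obtain ⟨W, hW, hyW, hWU⟩ := exists_isAffineOpen_mem_and_subset hy
      exact Opens.mem_iSup.2 ⟨⟨W, hW, hWU⟩, hyW⟩
    · change Y.presheaf.map _ (Y.presheaf.map _ (sf a)) = Y.presheaf.map _ (Y.presheaf.map _ (sf b))
      simp only [← CommRingCat.comp_apply, ← Functor.map_comp, ← op_comp, sf]
      rw [nW_res π a.2.1 W.2.1, nW_res π b.2.1 W.2.1]
      simp only [← CommRingCat.comp_apply, ← Functor.map_comp, ← op_comp]
      rfl
  obtain ⟨t, ht, -⟩ := TopCat.Sheaf.existsUnique_gluing' Y.sheaf V U (fun W => homOfLE W.2.2) hcov sf hcompat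
  exact ⟨t, fun W hW i => ht ⟨W, hW, i.le⟩⟩

theorem ext_affine {U : Y.Opens} {t t' : Γ(Y, U)}
    (h : ∀ (W : Y.Opens) (_ : IsAffineOpen W) (i : W ⟶ U), Y.presheaf.map i.op t = Y.presheaf.map i.op t') :
    t = t' := by
  let ι := { W : Y.Opens // IsAffineOpen W ∧ W ≤ U }
  refine TopCat.Sheaf.eq_of_locally_eq' Y.sheaf (fun W : ι => W.1) U (fun W => homOfLE W.2.2)
    (fun y hy => ?_) _ _ fun W => h W.1 W.2.1 (homOfLE W.2.2)
  obtain ⟨W, hW, hyW, hWU⟩ := exists_isAffineOpen_mem_and_subset hy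
  exact Opens.mem_iSup.2 ⟨⟨W, hW, hWU⟩, hyW⟩

/-- The norm of sections. -/
def norm (U : Y.Opens) : Γ(X, π ⁻¹ᵁ U) →* Γ(Y, U) where
  toFun s := (exists_norm π U s).choose
  map_one' := ext_affine fun W hW i => by
    rw [(exists_norm π U 1).choose_spec W hW i, map_one, map_one]
    exact Pres.norm_one _
  map_mul' s t := ext_affine fun W hW i => by
    rw [(exists_norm π U (s * t)).choose_spec W hW i, map_mul, map_mul,
      (exists_norm π U s).choose_spec W hW i, (exists_norm π U t).choose_spec W hW i]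
    exact (Pres.norm_mul _ _ _).symm

theorem norm_spec {U : Y.Opens} (s : Γ(X, π ⁻¹ᵁ U)) (W : Y.Opens) (hW : IsAffineOpen W) (i : W ⟶ U) :
    Y.presheaf.map i.op (norm π U s) = nW π hW (X.presheaf.map ((Opens.map π.base).map i).op s) :=
  (exists_norm π U s).choose_spec W hW i

theorem rankAtStalk_eq {d : ℕ} (hd : ∀ y : Y, π.finrank y = d) {W : Y.Opens} (hW : IsAffineOpen W) :
    letI := (π.appLE W (π ⁻¹ᵁ W) le_rfl).hom.toAlgebra
    ∀ p, Module.rankAtStalk (R := Γ(Y, W)) Γ(X, π ⁻¹ᵁ W) p = d := by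
  letI := (π.appLE W (π ⁻¹ᵁ W) le_rfl).hom.toAlgebra
  intro p
  haveI : Module.Finite Γ(Y, W) Γ(X, π ⁻¹ᵁ W) := by
    have : (π.appLE W (π ⁻¹ᵁ W) le_rfl).hom.Finite := by
      rw [Scheme.Hom.appLE_eq_app]; exact π.finite_app W hW
    exact this
  haveI : Module.Flat Γ(Y, W) Γ(X, π ⁻¹ᵁ W) :=
    HasRingHomProperty.appLE @Flat π inferInstance ⟨W, hW⟩ ⟨_, hW.preimage π⟩ le_rfl
  have hsq : IsPullback (hW.preimage π).fromSpec (Spec.map (π.appLE W (π ⁻¹ᵁ W) le_rfl)) π hW.fromSpec := by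
    refine (IsOpenImmersion.isPullback _ _ _ _ ((IsAffineOpen.SpecMap_appLE_fromSpec π hW (hW.preimage π) le_rfl).symm) ?_).flip
    rw [IsAffineOpen.opensRange_fromSpec, IsAffineOpen.opensRange_fromSpec]
  rw [← hd (hW.fromSpec p), ← Scheme.Hom.finrank_of_isPullback _ _ _ _ hsq p]
  exact (Scheme.Hom.finrank_SpecMap_algebraMap Γ(Y, W) Γ(X, π ⁻¹ᵁ W) p).symm

theorem hasNorm {d : ℕ} (hd1 : 1 ≤ d) (hd : ∀ y : Y, π.finrank y = d) : Nrm.HasNorm π d := by
  refine ⟨⟨hd1, norm π, fun {U V} i s => ext_affine fun W hW j => ?_, fun U g => ext_affine fun W hW i => ?_,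
    fun U s x hx hs => ?_⟩⟩
  · rw [norm_spec π (X.presheaf.map ((Opens.map π.base).map i).op s) W hW j, ← CommRingCat.comp_apply,
      ← Functor.map_comp, ← op_comp, norm_spec π s W hW (j ≫ i)]
    simp only [← CommRingCat.comp_apply, ← Functor.map_comp, ← op_comp]
  · rw [norm_spec, map_pow]
    letI := (π.appLE W (π ⁻¹ᵁ W) le_rfl).hom.toAlgebra
    obtain ⟨P⟩ := nonempty_pres π hW
    haveI : Module.Finite Γ(Y, W) Γ(X, π ⁻¹ᵁ W) := by
      have : (π.appLE W (π ⁻¹ᵁ W) le_rfl).hom.Finite := by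
        rw [Scheme.Hom.appLE_eq_app]; exact π.finite_app W hW
      exact this
    haveI : Module.Flat Γ(Y, W) Γ(X, π ⁻¹ᵁ W) :=
      HasRingHomProperty.appLE @Flat π inferInstance ⟨W, hW⟩ ⟨_, hW.preimage π⟩ le_rfl
    haveI : Algebra.FinitePresentation Γ(Y, W) Γ(X, π ⁻¹ᵁ W) := π.finitePresentation_appLE hW (hW.preimage π) le_rfl
    haveI := Module.FinitePresentation.of_finite_of_finitePresentation Γ(Y, W) Γ(X, π ⁻¹ᵁ W)
    haveI : Module.Projective Γ(Y, W) Γ(X, π ⁻¹ᵁ W) := Module.Flat.projective_of_finitePresentation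
    refine Eq.trans ?_ (norm_algebraMap (rankAtStalk_eq π hd hW) (nonempty_pres π hW).some (Y.presheaf.map i.op g))
    change nW π hW _ = nW π hW _
    congr 1
    change _ = (π.appLE W (π ⁻¹ᵁ W) le_rfl) _
    rw [Scheme.Hom.appLE_eq_app, ← CommRingCat.comp_apply, ← CommRingCat.comp_apply, Scheme.Hom.naturality]
    rfl
  · by_contra hn
    have hu : IsUnit (Y.presheaf.germ U (π x) hx (norm π U s)) := IsLocalRing.notMem_maximalIdeal.1 hn
    obtain ⟨W, hW, hxW, hWle⟩ := exists_isAffineOpen_mem_and_subset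
      (show π x ∈ Y.basicOpen (norm π U s) from (Y.mem_basicOpen _ _ hx).2 hu)
    have hWU : W ≤ U := hWle.trans (Y.basicOpen_le _)
    have h1 : IsUnit (Y.presheaf.map (homOfLE hWU).op (norm π U s)) := by
      have := (RingedSpace.isUnit_res_basicOpen Y.toRingedSpace (norm π U s)).map
        (Y.presheaf.map (homOfLE hWle).op).hom
      erw [← CommRingCat.comp_apply, ← Functor.map_comp, ← op_comp] at this
      exact this
    rw [norm_spec π s W hW] at h1
    have h2 := ((Pres.isUnit_norm_iff _ _).1 h1).map (X.presheaf.germ (π ⁻¹ᵁ W) x hxW).hom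
    erw [TopCat.Presheaf.germ_res_apply] at h2
    exact (IsLocalRing.mem_maximalIdeal _).1 hs h2

end Groth.Agent.NormFLF
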