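import Groth.Prelude.Def_Fitting
import Mathlib.AlgebraicGeometry.AffineScheme
import Mathlib.Algebra.Category.Ring.Constructions

/-!
# Gluing norms given on affine opens
-/

set_option linter.style.haveILetI false

universe u

open CategoryTheory Limits AlgebraicGeometry TopologicalSpace Opposite

namespace Groth.Agent.NormFLF.OfAffine

variable {X Y : Scheme.{u}}

theorem ext_affine {U : Y.Opens} {t t' : Γ(Y, U)}
    (h : ∀ (W : Y.Opens) (_ : IsAffineOpen W) (i : W ⟶ U), Y.presheaf.map i.op t = Y.presheaf.map i.op t') :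
    t = t' := by
  let ι := { W : Y.Opens // IsAffineOpen W ∧ W ≤ U }
  refine TopCat.Sheaf.eq_of_locally_eq' Y.sheaf (fun W : ι => W.1) U (fun W => homOfLE W.2.2)
    (fun y hy => ?_) _ _ fun W => h W.1 W.2.1 (homOfLE W.2.2)
  obtain ⟨W, hW, hyW, hWU⟩ := exists_isAffineOpen_mem_and_subset hy
  exact Opens.mem_iSup.2 ⟨⟨W, hW, hWU⟩, hyW⟩

variable (π : X ⟶ Y) {d : ℕ}
  (n : ∀ W : Y.Opens, IsAffineOpen W → (Γ(X, π ⁻¹ᵁ W) →* Γ(Y, W)))
  (hres : ∀ (W W' : Y.Opens) (hW : IsAffineOpen W) (hW' : IsAffineOpen W') (i : W' ⟶ W) (s : Γ(X, π ⁻¹ᵁ W)),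
    Y.presheaf.map i.op (n W hW s) = n W' hW' (X.presheaf.map ((Opens.map π.base).map i).op s))

include hres in
theorem exists_glue (U : Y.Opens) (s : Γ(X, π ⁻¹ᵁ U)) :
    ∃ t : Γ(Y, U), ∀ (W : Y.Opens) (hW : IsAffineOpen W) (i : W ⟶ U),
      Y.presheaf.map i.op t = n W hW (X.presheaf.map ((Opens.map π.base).map i).op s) := by
  let ι := { W : Y.Opens // IsAffineOpen W ∧ W ≤ U }
  let V : ι → Y.Opens := fun W => W.1
  have hcov : U ≤ iSup V := fun y hy => by
    obtain ⟨W, hW, hyW, hWU⟩ := exists_isAffineOpen_mem_and_subset hy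
    exact Opens.mem_iSup.2 ⟨⟨W, hW, hWU⟩, hyW⟩
  let sf : ∀ W : ι, Γ(Y, V W) :=
    fun W => n W.1 W.2.1 (X.presheaf.map ((Opens.map π.base).map (homOfLE W.2.2)).op s)
  have hcompat : TopCat.Presheaf.IsCompatible Y.sheaf.obj V sf := by
    intro a b
    let ι' := { W : Y.Opens // IsAffineOpen W ∧ W ≤ V a ⊓ V b }
    refine TopCat.Sheaf.eq_of_locally_eq' Y.sheaf (fun W : ι' => W.1) (V a ⊓ V b)
      (fun W => homOfLE W.2.2) (fun y hy => ?_) _ _ fun W => ?_
    · obtain ⟨W, hW, hyW, hWU⟩ := exists_isAffineOpen_mem_and_subset hy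
      exact Opens.mem_iSup.2 ⟨⟨W, hW, hWU⟩, hyW⟩
    · change Y.presheaf.map _ (Y.presheaf.map _ (sf a)) = Y.presheaf.map _ (Y.presheaf.map _ (sf b))
      simp only [← CommRingCat.comp_apply, ← Functor.map_comp, ← op_comp, sf]
      rw [hres _ _ a.2.1 W.2.1, hres _ _ b.2.1 W.2.1]
      simp only [← CommRingCat.comp_apply, ← Functor.map_comp, ← op_comp]
      rfl
  obtain ⟨t, ht, -⟩ := TopCat.Sheaf.existsUnique_gluing' Y.sheaf V U (fun W => homOfLE W.2.2) hcov sf hcompat
  exact ⟨t, fun W hW i => ht ⟨W, hW, i.le⟩⟩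

include hres in
/-- A norm is determined by compatible norms on affine opens. -/
theorem hasNorm_of_affine (hd : 1 ≤ d)
    (happ : ∀ (W : Y.Opens) (hW : IsAffineOpen W) (g : Γ(Y, W)), n W hW (π.app W g) = g ^ d)
    (hmem : ∀ (W : Y.Opens) (hW : IsAffineOpen W) (s : Γ(X, π ⁻¹ᵁ W)) (x : X) (hx : π x ∈ W),
      X.presheaf.germ (π ⁻¹ᵁ W) x hx s ∈ IsLocalRing.maximalIdeal (X.presheaf.stalk x) →
        Y.presheaf.germ W (π x) hx (n W hW s) ∈ IsLocalRing.maximalIdeal (Y.presheaf.stalk (π x))) :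
    Nrm.HasNorm π d := by
  let N : ∀ U : Y.Opens, Γ(X, π ⁻¹ᵁ U) →* Γ(Y, U) := fun U =>
    { toFun := fun s => (exists_glue π n hres U s).choose
      map_one' := ext_affine fun W hW i => by
        rw [(exists_glue π n hres U 1).choose_spec W hW i, map_one, map_one, map_one]
      map_mul' := fun s t => ext_affine fun W hW i => by
        rw [(exists_glue π n hres U (s * t)).choose_spec W hW i, map_mul, map_mul, map_mul,
          (exists_glue π n hres U s).choose_spec W hW i, (exists_glue π n hres U t).choose_spec W hW i] }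
  have hN : ∀ (U : Y.Opens) (s : Γ(X, π ⁻¹ᵁ U)) (W : Y.Opens) (hW : IsAffineOpen W) (i : W ⟶ U),
      Y.presheaf.map i.op (N U s) = n W hW (X.presheaf.map ((Opens.map π.base).map i).op s) :=
    fun U s => (exists_glue π n hres U s).choose_spec
  refine ⟨⟨hd, N, fun {U V} i s => ext_affine fun W hW j => ?_, fun U g => ext_affine fun W hW i => ?_,
    fun U s x hx hs => ?_⟩⟩
  · rw [hN V _ W hW j, ← CommRingCat.comp_apply,
      ← Functor.map_comp, ← op_comp, hN U s W hW (j ≫ i)]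
    simp only [← CommRingCat.comp_apply, ← Functor.map_comp, ← op_comp]
  · rw [hN U _ W hW i, map_pow]
    refine Eq.trans ?_ (happ W hW (Y.presheaf.map i.op g))
    congr 1
    rw [← CommRingCat.comp_apply, ← CommRingCat.comp_apply, Scheme.Hom.naturality]
    rfl
  · obtain ⟨W, hW, hxW, hWU⟩ := exists_isAffineOpen_mem_and_subset (show π x ∈ U from hx)
    have h1 := hmem W hW (X.presheaf.map ((Opens.map π.base).map (homOfLE hWU)).op s) x hxW
      (by erw [TopCat.Presheaf.germ_res_apply]; exact hs)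
    rw [← hN U s W hW (homOfLE hWU)] at h1
    erw [TopCat.Presheaf.germ_res_apply] at h1
    exact h1

end Groth.Agent.NormFLF.OfAffine
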